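import Mathlib
import Cfsg.Agent.Lib.Helper16.SylowIn

/-!
# Conjugates of subgroups and relative Sylow subgroups (tools for B-G section 10)
-/

set_option autoImplicit false
set_option linter.unusedSectionVars false

namespace Cfsg.Agent.Helper79.BG10

open Subgroup
open Cfsg.Agent.Helper16

variable {G : Type*} [Group G]

/-- the conjugate `g X g⁻¹` of a subgroup, in the form used by the frozen statements -/
abbrev cj (g : G) (X : Subgroup G) : Subgroup G := X.map (MulAut.conj g).toMonoidHom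

theorem mem_cj {g x : G} {X : Subgroup G} : x ∈ cj g X ↔ g⁻¹ * x * g ∈ X := by
  constructor
  · rintro ⟨y, hy, rfl⟩
    have : g⁻¹ * ((MulAut.conj g).toMonoidHom y) * g = y := by
      simp [MulAut.conj_apply, mul_assoc]
    rw [this]; exact hy
  · intro h
    refine ⟨g⁻¹ * x * g, h, ?_⟩
    simp [MulAut.conj_apply, mul_assoc]

theorem conj_mem_cj {g x : G} {X : Subgroup G} (hx : x ∈ X) : g * x * g⁻¹ ∈ cj g X :=
  ⟨x, hx, by simp [MulAut.conj_apply]⟩

theorem cj_one (X : Subgroup G) : cj (1 : G) X = X := by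
  ext x; simp

theorem cj_mul (g h : G) (X : Subgroup G) : cj (g * h) X = cj g (cj h X) := by
  ext x
  simp only [mem_cj]
  have : h⁻¹ * (g⁻¹ * x * g) * h = (g * h)⁻¹ * x * (g * h) := by group
  rw [this]

theorem cj_inv_cj (g : G) (X : Subgroup G) : cj g⁻¹ (cj g X) = X := by
  rw [← cj_mul, inv_mul_cancel, cj_one]

theorem cj_cj_inv (g : G) (X : Subgroup G) : cj g (cj g⁻¹ X) = X := by
  rw [← cj_mul, mul_inv_cancel, cj_one]

theorem cj_mono (g : G) {X Y : Subgroup G} (h : X ≤ Y) : cj g X ≤ cj g Y :=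
  Subgroup.map_mono h

theorem cj_le_iff {g : G} {X Y : Subgroup G} : cj g X ≤ Y ↔ X ≤ cj g⁻¹ Y := by
  constructor
  · intro h
    have := cj_mono g⁻¹ h
    rwa [cj_inv_cj] at this
  · intro h
    have := cj_mono g h
    rwa [cj_cj_inv] at this

theorem card_cj (g : G) (X : Subgroup G) : Nat.card (cj g X) = Nat.card X :=
  Subgroup.card_map_of_injective (MulAut.conj g).injective

theorem isPGroup_cj {p : ℕ} (g : G) {X : Subgroup G} (h : IsPGroup p X) : IsPGroup p (cj g X) :=
  h.map _

theorem cj_eq_self_of_mem_normalizer {g : G} {X : Subgroup G}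
    (hg : g ∈ normalizer (X : Set G)) : cj g X = X := by
  ext x
  rw [mem_cj]
  have hg' : g⁻¹ ∈ normalizer (X : Set G) := inv_mem hg
  have := (mem_normalizer_iff.mp hg' x)
  rw [inv_inv] at this
  exact this.symm

theorem cj_eq_self_of_mem {g : G} {X : Subgroup G} (hg : g ∈ X) : cj g X = X :=
  cj_eq_self_of_mem_normalizer (le_normalizer hg)

theorem mem_normalizer_of_cj_eq {g : G} {X : Subgroup G} (h : cj g X = X) :
    g ∈ normalizer (X : Set G) := by
  rw [mem_normalizer_iff]
  intro x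
  constructor
  · intro hx
    rw [← h]; exact conj_mem_cj hx
  · intro hx
    rw [← h, mem_cj] at hx
    have : g⁻¹ * (g * x * g⁻¹) * g = x := by group
    rwa [this] at hx

theorem normalizer_cj (g : G) (X : Subgroup G) :
    normalizer ((cj g X : Subgroup G) : Set G) = cj g (normalizer (X : Set G)) :=
  (Subgroup.map_equiv_normalizer_eq X (MulAut.conj g)).symm

theorem centralizer_cj (g : G) (X : Subgroup G) :
    centralizer ((cj g X : Subgroup G) : Set G) = cj g (centralizer (X : Set G)) := by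
  ext c
  rw [mem_cj, mem_centralizer_iff, mem_centralizer_iff]
  constructor
  · intro h x hx
    have h1 := h (g * x * g⁻¹) (conj_mem_cj hx)
    have e1 : x * (g⁻¹ * c * g) = g⁻¹ * ((g * x * g⁻¹) * c) * g := by group
    have e2 : g⁻¹ * c * g * x = g⁻¹ * (c * (g * x * g⁻¹)) * g := by group
    rw [e1, e2, h1]
  · intro h y hy
    have hy' := (mem_cj.mp hy)
    have h1 := h _ hy'
    have e1 : y * c = g * ((g⁻¹ * y * g) * (g⁻¹ * c * g)) * g⁻¹ := by group
    have e2 : c * y = g * ((g⁻¹ * c * g) * (g⁻¹ * y * g)) * g⁻¹ := by group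
    rw [e1, e2, h1]

/-! ### relative Sylow subgroups -/

variable [Finite G] {p : ℕ} [Fact p.Prime]

theorem isSylowIn_cj {K T : Subgroup G} (h : IsSylowIn p K T) (g : G) :
    IsSylowIn p (cj g K) (cj g T) := by
  rw [isSylowIn_iff_card] at h ⊢
  exact ⟨cj_mono g h.1, by rw [card_cj, card_cj]; exact h.2⟩

/-- Sylow subgroups of `K` are conjugate under `K`, in `cj` form -/
theorem exists_cj_eq_of_isSylowIn {K P Q : Subgroup G} (hP : IsSylowIn p K P)
    (hQ : IsSylowIn p K Q) : ∃ z ∈ K, Q = cj z P := by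
  obtain ⟨z, hz, h⟩ := hP.exists_conj hQ
  refine ⟨z, hz, ?_⟩
  ext x
  rw [h x, mem_cj]

/-- every `p`-subgroup of `K` lies in a Sylow `p`-subgroup of `K` -/
theorem exists_isSylowIn_ge {K X : Subgroup G} (hX : IsPGroup p X) (hXK : X ≤ K) :
    ∃ T : Subgroup G, X ≤ T ∧ IsSylowIn p K T := by
  have hX' : IsPGroup p (X.subgroupOf K) := hX.comap_subtype
  obtain ⟨S, hS⟩ := hX'.exists_le_sylow
  refine ⟨(S : Subgroup K).map K.subtype, ?_, ⟨S, rfl⟩⟩
  intro a ha
  exact ⟨⟨a, hXK ha⟩, hS ha, rfl⟩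

/-- a `p`-subgroup of `K` has order at most that of a Sylow `p`-subgroup of `K` -/
theorem card_le_of_isSylowIn {K X T : Subgroup G} (hX : IsPGroup p X) (hXK : X ≤ K)
    (hT : IsSylowIn p K T) : Nat.card X ≤ Nat.card T := by
  obtain ⟨T', hXT', hT'⟩ := exists_isSylowIn_ge hX hXK
  rw [hT.card, ← hT'.card]
  exact Nat.le_of_dvd Nat.card_pos (Subgroup.card_dvd_of_le hXT')

/-- a `p`-subgroup of `K` of Sylow order is a Sylow subgroup of `K` -/
theorem isSylowIn_of_card_eq {K X T : Subgroup G} (hXK : X ≤ K)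
    (hT : IsSylowIn p K T) (hc : Nat.card X = Nat.card T) : IsSylowIn p K X :=
  isSylowIn_of_card hXK (hc.trans hT.card)

/-- a Sylow subgroup of `K` is a Sylow subgroup of any intermediate subgroup -/
theorem isSylowIn_of_le {K L T : Subgroup G} (hT : IsSylowIn p K T) (hTL : T ≤ L) (hLK : L ≤ K) :
    IsSylowIn p L T := by
  have hp : p.Prime := Fact.out
  refine isSylowIn_of_card hTL ?_
  rw [hT.card]
  congr 1
  have hK0 : Nat.card K ≠ 0 := Nat.card_pos.ne'
  have hL0 : Nat.card L ≠ 0 := Nat.card_pos.ne'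
  apply le_antisymm
  · have : p ^ (Nat.card K).factorization p ∣ Nat.card L := by
      rw [← hT.card]; exact Subgroup.card_dvd_of_le hTL
    exact (hp.pow_dvd_iff_le_factorization hL0).mp this
  · have : p ^ (Nat.card L).factorization p ∣ Nat.card K :=
      (Nat.ordProj_dvd _ _).trans (Subgroup.card_dvd_of_le hLK)
    exact (hp.pow_dvd_iff_le_factorization hK0).mp this

/-- `T` Sylow in `K` with `N_K(T)`... : a Sylow subgroup of `M` whose normalizer lies in `M`
is a Sylow subgroup of the whole group. -/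
theorem isSylowIn_top_of_normalizer_le {M P : Subgroup G} (hP : IsSylowIn p M P)
    (hN : normalizer (P : Set G) ≤ M) : IsSylowIn p ⊤ P := by
  apply isSylowIn_of_isSylowIn_inf_normalizer
  rw [top_inf_eq]
  exact isSylowIn_of_le hP le_normalizer hN

/-- normalizers grow in `p`-groups: a proper subgroup `X` of a `p`-group `P` is properly
contained in `P ⊓ N(X)` -/
theorem exists_mem_normalizer_not_mem {P X : Subgroup G} (hP : IsPGroup p P) (hXP : X ≤ P)
    (hne : X ≠ P) : ∃ q ∈ P, q ∈ normalizer (X : Set G) ∧ q ∉ X := by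
  have : Group.IsNilpotent P := hP.isNilpotent
  have hnc := Group.normalizerCondition_of_isNilpotent (G := P)
  have hlt : X.subgroupOf P < ⊤ := by
    rw [lt_top_iff_ne_top]
    intro h
    rw [Subgroup.subgroupOf_eq_top] at h
    exact hne (le_antisymm hXP h)
  have h2 := hnc _ hlt
  obtain ⟨q, hqN, hqX⟩ := SetLike.exists_of_lt h2
  rw [← Subgroup.subgroupOf_normalizer_eq hXP] at hqN
  exact ⟨q.1, q.2, hqN, hqX⟩

end Cfsg.Agent.Helper79.BG10
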