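import Mathlib
import Cfsg.Agent.Lib.Helper79.BG10.Conj

/-!
# B-G Lemma 10.1(a): abstract form

`M ≤ G`, `P₀` a Sylow `p`-subgroup of `M` with `N_G(P₀) ≤ M`, and a local hypothesis `hloc` on the
normalizers of the nontrivial `p`-subgroups of `M` (in the application: either `N_G(X) ≤ M`, by the
Uniqueness Theorem, or `N_G(X)` has `p`-length one).  Then `M` controls fusion of its `p`-subgroups:
`g X g⁻¹ ≤ M` implies `g ∈ M C_G(X)`.
-/

set_option autoImplicit false
set_option linter.unusedSectionVars false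

namespace Cfsg.Agent.Helper79.BG10

open Subgroup
open Cfsg.Agent.Helper16

variable {G : Type*} [Group G] [Finite G] {p : ℕ} [Fact p.Prime]

/-- the fusion-control property of `M` at `X` -/
def Ctrl (M X : Subgroup G) : Prop :=
  ∀ g : G, cj g X ≤ M → ∃ m ∈ M, ∃ c ∈ centralizer (X : Set G), g = m * c

/-- the local hypothesis at `X` -/
def LocHyp (p : ℕ) (M : Subgroup G) : Prop :=
  ∀ X T : Subgroup G, X ≠ ⊥ → IsPGroup p X → X ≤ T → T ≤ M →
    IsSylowIn p (normalizer (X : Set G)) T →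
    (normalizer (X : Set G) ≤ M ∨
      ∀ n ∈ normalizer (X : Set G), ∃ ν ∈ normalizer (T : Set G) ⊓ normalizer (X : Set G),
        ∃ k ∈ centralizer (X : Set G), n = ν * k)

section

variable {M P₀ : Subgroup G} (hP₀ : IsSylowIn p M P₀) (hN : normalizer (P₀ : Set G) ≤ M)

include hP₀ hN

/-- every Sylow `p`-subgroup of `M` has its normalizer in `M` -/
theorem normalizer_le_of_isSylowIn {P : Subgroup G} (hP : IsSylowIn p M P) :
    normalizer (P : Set G) ≤ M := by
  obtain ⟨m, hm, rfl⟩ := exists_cj_eq_of_isSylowIn hP₀ hP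
  rw [normalizer_cj]
  have h1 : cj m (normalizer (P₀ : Set G)) ≤ cj m M := cj_mono m hN
  rwa [cj_eq_self_of_mem hm] at h1

/-- the Sylow case of 10.1(a) -/
theorem mem_of_cj_sylow_le {P : Subgroup G} (hP : IsSylowIn p M P) {g : G} (hg : cj g P ≤ M) :
    g ∈ M := by
  have h1 : IsSylowIn p M (cj g P) := isSylowIn_of_card_eq hg hP (card_cj g P)
  obtain ⟨m, hm, h2⟩ := exists_cj_eq_of_isSylowIn hP h1
  -- cj g P = cj m P, so m⁻¹ g normalizes P
  have h3 : cj (m⁻¹ * g) P = P := by
    rw [cj_mul, h2, cj_inv_cj]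
  have h4 : m⁻¹ * g ∈ M :=
    normalizer_le_of_isSylowIn hP₀ hN hP (mem_normalizer_of_cj_eq h3)
  have : g = m * (m⁻¹ * g) := by group
  rw [this]
  exact mul_mem hm h4

/-- Step A: for a `p`-subgroup `X` of `M` which is not Sylow in `M`, if fusion is controlled at all
larger `p`-subgroups then some Sylow `p`-subgroup of `N_G(X)` lies in `M` (and properly contains `X`). -/
theorem exists_sylow_normalizer_le {X : Subgroup G} (hX : IsPGroup p X) (hXM : X ≤ M)
    (hXc : Nat.card X < Nat.card P₀)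
    (IH : ∀ Y : Subgroup G, IsPGroup p Y → Y ≤ M → Nat.card X < Nat.card Y → Ctrl M Y) :
    ∃ T : Subgroup G, X ≤ T ∧ Nat.card X < Nat.card T ∧ T ≤ M ∧
      IsSylowIn p (normalizer (X : Set G)) T := by
  obtain ⟨P, hXP, hP⟩ := exists_isSylowIn_ge hX hXM
  have hPN : normalizer (P : Set G) ≤ M := normalizer_le_of_isSylowIn hP₀ hN hP
  have hPG : IsSylowIn p ⊤ P := isSylowIn_top_of_normalizer_le hP hPN
  have hPM : P ≤ M := hP.le
  have hne : X ≠ P := by
    intro h
    rw [h, hP.card, ← hP₀.card] at hXc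
    exact lt_irrefl _ hXc
  obtain ⟨q, hqP, hqN, hqX⟩ := exists_mem_normalizer_not_mem hP.isPGroup hXP hne
  set Q : Subgroup G := P ⊓ normalizer (X : Set G) with hQ
  have hXQ : X ≤ Q := le_inf hXP le_normalizer
  have hQp : IsPGroup p Q := hP.isPGroup.to_le inf_le_left
  have hQM : Q ≤ M := inf_le_left.trans hPM
  have hQc : Nat.card X < Nat.card Q := by
    by_contra hcon
    have hXQeq : X = Q := Subgroup.eq_of_le_of_card_ge hXQ (not_lt.mp hcon)
    exact hqX (hXQeq ▸ (⟨hqP, hqN⟩ : q ∈ Q))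
  obtain ⟨S, hQS, hS⟩ := exists_isSylowIn_ge hQp (inf_le_right : Q ≤ normalizer (X : Set G))
  obtain ⟨S', hSS', hS'⟩ := exists_isSylowIn_ge hS.isPGroup (le_top : S ≤ ⊤)
  obtain ⟨h, -, hS'eq⟩ := exists_cj_eq_of_isSylowIn hPG hS'
  -- Q ≤ cj h P, so cj h⁻¹ Q ≤ P ≤ M
  have h1 : cj h⁻¹ Q ≤ M := by
    have : Q ≤ cj h P := hQS.trans (hSS'.trans hS'eq.le)
    have := cj_mono h⁻¹ this
    rw [cj_inv_cj] at this
    exact this.trans hPM
  obtain ⟨m, hm, c, hc, hmc⟩ := IH Q hQp hQM hQc h⁻¹ h1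
  -- h = c⁻¹ m⁻¹
  have hh : h = c⁻¹ * m⁻¹ := by
    have : h = (h⁻¹)⁻¹ := (inv_inv h).symm
    rw [this, hmc, mul_inv_rev]
  have hcX : c ∈ centralizer (X : Set G) := centralizer_le (by exact_mod_cast hXQ) hc
  have hcN : c ∈ normalizer (X : Set G) := centralizer_le_normalizer _ hcX
  refine ⟨cj c S, ?_, ?_, ?_, ?_⟩
  · -- X ≤ cj c S
    have : cj c X ≤ cj c S := cj_mono c (hXQ.trans hQS)
    rwa [cj_eq_self_of_mem_normalizer hcN] at this
  · -- card
    rw [card_cj]
    exact lt_of_lt_of_le hQc (Nat.le_of_dvd Nat.card_pos (Subgroup.card_dvd_of_le hQS))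
  · -- cj c S ≤ M
    have h2 : S ≤ cj (c⁻¹ * m⁻¹) P := by rw [← hh]; exact hSS'.trans hS'eq.le
    rw [cj_mul] at h2
    have h3 : cj m⁻¹ P ≤ M := by
      have := cj_mono m⁻¹ hPM
      rwa [cj_eq_self_of_mem (inv_mem hm)] at this
    have h4 : S ≤ cj c⁻¹ M := h2.trans (cj_mono _ h3)
    have := cj_mono c h4
    rwa [cj_cj_inv] at this
  · have := isSylowIn_cj hS c
    rwa [cj_eq_self_of_mem_normalizer (show c ∈ normalizer ((normalizer (X : Set G) : Subgroup G) : Set G)
      from le_normalizer hcN)] at this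

/-- B-G Lemma 10.1(a), abstract form. -/
theorem ctrl_of_locHyp (hloc : LocHyp p M) :
    ∀ X : Subgroup G, IsPGroup p X → X ≤ M → Ctrl M X := by
  -- strong induction on `card P₀ - card X`
  have key : ∀ d : ℕ, ∀ X : Subgroup G, IsPGroup p X → X ≤ M → Nat.card P₀ - Nat.card X = d →
      Ctrl M X := by
    intro d
    induction d using Nat.strong_induction_on with
    | _ d ih =>
    intro X hX hXM hd
    by_cases hX1 : X = ⊥
    · intro g _
      refine ⟨1, one_mem _, g, ?_, by simp⟩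
      rw [hX1, mem_centralizer_iff]
      intro y hy
      have : y = 1 := by simpa using hy
      rw [this]; simp
    have hXle : Nat.card X ≤ Nat.card P₀ := card_le_of_isSylowIn hX hXM hP₀
    rcases hXle.eq_or_lt with heq | hlt
    · -- X is Sylow in M
      intro g hg
      have hXS : IsSylowIn p M X := isSylowIn_of_card_eq hXM hP₀ heq
      exact ⟨g, mem_of_cj_sylow_le hP₀ hN hXS hg, 1, one_mem _, by simp⟩
    · -- X is not Sylow in M
      have IH : ∀ Y : Subgroup G, IsPGroup p Y → Y ≤ M → Nat.card X < Nat.card Y → Ctrl M Y := by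
        intro Y hY hYM hc
        have hYle : Nat.card Y ≤ Nat.card P₀ := card_le_of_isSylowIn hY hYM hP₀
        exact ih (Nat.card P₀ - Nat.card Y) (by omega) Y hY hYM rfl
      intro g hg
      obtain ⟨T, hXT, hTc, hTM, hT⟩ := exists_sylow_normalizer_le hP₀ hN hX hXM hlt IH
      -- the same for Y = cj g X
      have hYp : IsPGroup p (cj g X) := isPGroup_cj g hX
      have hYc : Nat.card (cj g X) = Nat.card X := card_cj g X
      have IH' : ∀ Y : Subgroup G, IsPGroup p Y → Y ≤ M → Nat.card (cj g X) < Nat.card Y →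
          Ctrl M Y := by
        intro Y hY hYM hc
        exact IH Y hY hYM (hYc ▸ hc)
      obtain ⟨T', hYT', -, hT'M, hT'⟩ :=
        exists_sylow_normalizer_le hP₀ hN hYp hg (hYc ▸ hlt) IH'
      -- cj g T is Sylow in N(cj g X)
      have h1 : IsSylowIn p (normalizer ((cj g X : Subgroup G) : Set G)) (cj g T) := by
        rw [normalizer_cj]; exact isSylowIn_cj hT g
      obtain ⟨n, hn, hT'eq⟩ := exists_cj_eq_of_isSylowIn h1 hT'
      have h2 : cj (n * g) T ≤ M := by rw [cj_mul, ← hT'eq]; exact hT'M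
      have hTp : IsPGroup p T := hT.isPGroup
      obtain ⟨m, hm, c, hc, hmc⟩ := IH T hTp hTM hTc (n * g) h2
      have hcX : c ∈ centralizer (X : Set G) := centralizer_le (by exact_mod_cast hXT) hc
      -- n = g n₀ g⁻¹ with n₀ ∈ N(X)
      rw [normalizer_cj, mem_cj] at hn
      set n₀ := g⁻¹ * n * g with hn₀
      have hg1 : g = m * (c * n₀⁻¹) := by
        have : n * g = g * n₀ := by rw [hn₀]; group
        rw [this] at hmc
        calc g = (g * n₀) * n₀⁻¹ := by group
          _ = m * c * n₀⁻¹ := by rw [hmc]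
          _ = m * (c * n₀⁻¹) := by group
      have hn1 : c * n₀⁻¹ ∈ normalizer (X : Set G) :=
        mul_mem (centralizer_le_normalizer _ hcX) (inv_mem hn)
      rcases hloc X T hX1 hX hXT hTM hT with hNM | hfr
      · exact ⟨m * (c * n₀⁻¹), mul_mem hm (hNM hn1), 1, one_mem _, by rw [mul_one]; exact hg1⟩
      · obtain ⟨ν, hν, k, hk, hνk⟩ := hfr _ hn1
        have h3 : cj ν T ≤ M := by
          rw [cj_eq_self_of_mem_normalizer hν.1]; exact hTM
        obtain ⟨m', hm', c', hc', hmc'⟩ := IH T hTp hTM hTc ν h3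
        have hc'X : c' ∈ centralizer (X : Set G) := centralizer_le (by exact_mod_cast hXT) hc'
        refine ⟨m * m', mul_mem hm hm', c' * k, mul_mem hc'X hk, ?_⟩
        rw [hg1, hνk, hmc']; group
  intro X hX hXM
  exact key _ X hX hXM rfl

end

/-- B-G Lemma 10.1(b)-type consequence: `N_G(X) = N_M(X) C_G(X)`. -/
theorem normalizer_eq_of_ctrl {M X : Subgroup G} (hXM : X ≤ M) (h : Ctrl M X) :
    normalizer (X : Set G) = (M ⊓ normalizer (X : Set G)) ⊔ centralizer (X : Set G) := by
  apply le_antisymm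
  · intro g hg
    have h1 : cj g X ≤ M := by rw [cj_eq_self_of_mem_normalizer hg]; exact hXM
    obtain ⟨m, hm, c, hc, rfl⟩ := h g h1
    have hcN : c ∈ normalizer (X : Set G) := centralizer_le_normalizer _ hc
    have hmN : m ∈ normalizer (X : Set G) := by
      have : m = (m * c) * c⁻¹ := by group
      rw [this]; exact mul_mem hg (inv_mem hcN)
    exact mul_mem (mem_sup_left ⟨hm, hmN⟩) (mem_sup_right hc)
  · exact sup_le inf_le_right (centralizer_le_normalizer _)

end Cfsg.Agent.Helper79.BG10
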