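import Mathlib
import Cfsg.Prelude.Def_OddOrderLocal
import Cfsg.Agent.Lib.Helper79.BG10.Ctrl
import Cfsg.Agent.Lib.Helper45.CNSimple
import Cfsg.Agent.Lib.Helper24.PLength
import Cfsg.Agent.Lib.Helper63.PLen
import Cfsg.Agent.S1450

/-!
# B-G Lemma 10.1(a),(b) in a minimal simple group of odd order

The local hypothesis `LocHyp` of `Ctrl.lean` holds for every maximal subgroup `M`, given the
Uniqueness Theorem (as the hypothesis `UniqHyp`, i.e. the statement of S1403) and B-G 4.18 (S1450).
-/

set_option autoImplicit false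
set_option linter.unusedSectionVars false

namespace Cfsg.Agent.Helper79.BG10

open Subgroup
open Cfsg.Agent.Helper16

/-- the Uniqueness Theorem (B-G 9.6, statement S1403) as a hypothesis -/
def UniqHyp (G : Type*) [Group G] : Prop :=
  ∀ K : Subgroup G, K ≠ ⊤ → ¬ Cfsg.RankLE 1 K →
    (¬ Cfsg.RankLE 2 K ∨ ¬ Cfsg.RankLE 2 (Subgroup.centralizer (K : Set G))) →
    Cfsg.InUniqueMaximal K

section plen

variable {H : Type*} [Group H] [Finite H] {p : ℕ} [Fact p.Prime]

/-- `O_{p',p}(H)` of index prime to `p` means `p`-length at most one -/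
theorem pLengthLE_one_of_index_coprime (h : ((Cfsg.pPrimePCore p H).index).Coprime p) :
    Cfsg.PLengthLE p 1 H := by
  apply Cfsg.Agent.Helper63.PLengthLE_of_PL
  have hKL : Cfsg.pPrimeCore p H ≤ Cfsg.pPrimePCore p H :=
    Cfsg.Agent.Helper23.pPrimeCore_le_pPrimePCore p
  have hLn : (Cfsg.pPrimePCore p H).Normal := Cfsg.Agent.Helper23.pPrimePCore_normal p
  have h0 : Cfsg.Agent.Helper63.PL p 0 (⊥ : Subgroup H) (Cfsg.pPrimeCore p H) := by
    refine Cfsg.Agent.Helper63.PL.base _ _ bot_le inferInstance inferInstance ?_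
    rw [Subgroup.relIndex_bot_left]
    exact Cfsg.Agent.Helper55.pPrimeCore_coprime p
  refine Cfsg.Agent.Helper63.PL.step 0 _ _ (Cfsg.pPrimePCore p H) ⊤ h0 hKL le_top hLn
    inferInstance ?_ ?_
  · have h1 : (Cfsg.pPrimeCore p H).relIndex (Cfsg.pPrimePCore p H)
        = Nat.card (Cfsg.pCore p (H ⧸ Cfsg.pPrimeCore p H)) := by
      unfold Cfsg.pPrimePCore
      exact Cfsg.Agent.Helper63.relIndex_comap_mk' _ _
    rw [h1]
    exact (IsPGroup.iff_card.mp Cfsg.Agent.Helper55.isPGroup_pCore)
  · rw [Subgroup.relIndex_top_right]; exact h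

end plen

section rank

variable {G : Type*} [Group G]

/-- an elementary abelian subgroup of order `> p^k` inside a subgroup `T` shows `¬ RankLE k T` -/
theorem not_rankLE_of_elemAb {p k : ℕ} (hp : p.Prime) {T A : Subgroup G} (hAT : A ≤ T)
    (hcomm : ∀ a ∈ A, ∀ b ∈ A, a * b = b * a) (hexp : ∀ a ∈ A, a ^ p = 1)
    (hcard : p ^ k < Nat.card A) : ¬ Cfsg.RankLE k T := by
  intro h
  have h1 := h p hp (A.subgroupOf T) ?_ ?_
  · have : Nat.card (A.subgroupOf T) = Nat.card A :=
      Nat.card_congr (Subgroup.subgroupOfEquivOfLe hAT).toEquiv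
    omega
  · refine ⟨⟨fun a b => ?_⟩⟩
    apply Subtype.ext
    apply Subtype.ext
    have := hcomm a.1.1 a.2 b.1.1 b.2
    simpa using this
  · intro a ha
    apply Subtype.ext
    have := hexp a.1 ha
    simpa using this

end rank

section loc

variable {G : Type*} [Group G] [Finite G] {p : ℕ} [Fact p.Prime]

/-- The local hypothesis of `ctrl_of_locHyp` holds in a minimal simple group of odd order. -/
theorem locHyp_of_minSimple (hG : Cfsg.IsMinSimpleOddOrder G) (hU : UniqHyp G)
    {M : Subgroup G} (hM : IsCoatom M) : LocHyp p M := by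
  have hp : p.Prime := Fact.out
  intro X T hX1 hXp hXT hTM hT
  set N : Subgroup G := normalizer (X : Set G) with hNdef
  have hNtop : N ≠ ⊤ := Cfsg.Agent.Helper45.CNSimple.normalizer_ne_top hG hXp hX1
  have hXN : X ≤ N := le_normalizer
  by_cases hr : Cfsg.PRankLE p 2 ↥N
  · -- `N` has `p`-length one
    right
    have : Group.IsSolvable ↥N := Cfsg.Agent.Helper45.CNSimple.solvable_of_ne_top hG hNtop
    have hodd : Odd (Nat.card ↥N) := Cfsg.Agent.Helper45.CNSimple.odd_card_subgroup hG N
    have hpN : p ∣ Nat.card ↥N := by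
      have h1 : p ∣ Nat.card X := by
        obtain ⟨n, hn⟩ := IsPGroup.iff_card.mp hXp
        rcases Nat.eq_zero_or_pos n with h0 | hpos
        · exfalso
          rw [h0, pow_zero] at hn
          exact hX1 ((Subgroup.card_eq_one).mp hn)
        · rw [hn]; exact dvd_pow_self p hpos.ne'
      exact h1.trans (Subgroup.card_dvd_of_le hXN)
    have h450 := Cfsg.Agent.S1450.result (G := ↥N) hodd p hpN hr
    have hpl : Cfsg.PLengthLE p 1 ↥N := pLengthLE_one_of_index_coprime h450.2.2.2.2.2
    obtain ⟨S, hS⟩ := hT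
    have hstr := Cfsg.Agent.Helper24.plength_one_structure p hpl S
    have hfr := hstr.2.2.1
    have hcopK := hstr.1
    intro n hn
    have hmem : (⟨n, hn⟩ : ↥N) ∈ normalizer ((S : Subgroup ↥N) : Set ↥N) ⊔ Cfsg.pPrimeCore p ↥N := by
      rw [hfr]; exact mem_top _
    obtain ⟨ν, hν, k, hk, hνk⟩ := Subgroup.mem_sup_of_normal_right.mp hmem
    refine ⟨ν.1, Subgroup.mem_inf.mpr ⟨?_, ν.2⟩, k.1, ?_, ?_⟩
    · -- ν normalizes T = S.map subtype
      rw [mem_normalizer_iff]
      intro x
      rw [← hS]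
      constructor
      · rintro ⟨y, hy, rfl⟩
        exact ⟨ν * y * ν⁻¹, (mem_normalizer_iff.mp hν y).mp hy, by simp⟩
      · rintro ⟨y, hy, hyx⟩
        have hx : x ∈ N := by
          have h1 : (ν.1)⁻¹ * (ν.1 * x * (ν.1)⁻¹) * ν.1 = x := by group
          rw [← h1]
          refine mul_mem (mul_mem (inv_mem ν.2) ?_) ν.2
          rw [← hyx]; exact y.2
        refine ⟨⟨x, hx⟩, ?_, rfl⟩
        apply (mem_normalizer_iff.mp hν ⟨x, hx⟩).mpr
        have : ν * ⟨x, hx⟩ * ν⁻¹ = y := by
          apply Subtype.ext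
          simpa using hyx.symm
        rw [this]; exact hy
    · -- k centralizes X
      have hXn : (X.subgroupOf N).Normal := by
        rw [hNdef]; exact Subgroup.normal_in_normalizer
      have hdis : Disjoint (X.subgroupOf N) (Cfsg.pPrimeCore p ↥N) := by
        apply Subgroup.disjoint_of_coprime_natCard
        have hXp' : IsPGroup p (X.subgroupOf N) := hXp.comap_subtype
        obtain ⟨m, hm⟩ := IsPGroup.iff_card.mp hXp'
        rw [hm]
        exact Nat.Coprime.pow_left m (Nat.Coprime.symm hcopK)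
      rw [mem_centralizer_iff]
      intro x hx
      have hc := Subgroup.commute_of_normal_of_disjoint _ _ hXn inferInstance hdis
        ⟨x, hXN hx⟩ k (by simpa [Subgroup.mem_subgroupOf] using hx) hk
      have := congrArg Subtype.val hc.eq
      simpa using this
    · have := congrArg Subtype.val hνk
      simpa using this.symm
  · -- `T` has rank at least 3, so it lies in a unique maximal subgroup, namely `M`
    left
    unfold Cfsg.PRankLE at hr
    push Not at hr
    obtain ⟨A, hAc, hAe, hAcard⟩ := hr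
    -- conjugate `A` into `T`
    have hAp : IsPGroup p (A.map N.subtype) := by
      apply IsPGroup.map
      intro a
      refine ⟨1, ?_⟩
      apply Subtype.ext
      have := hAe a.1 a.2
      simpa using this
    obtain ⟨T', hAT', hT'⟩ := exists_isSylowIn_ge hAp (Subgroup.map_subtype_le A)
    obtain ⟨z, hz, hTeq⟩ := exists_cj_eq_of_isSylowIn hT' hT
    set B : Subgroup G := cj z (A.map N.subtype) with hB
    have hBT : B ≤ T := by rw [hTeq]; exact cj_mono z hAT'
    have hBcomm : ∀ a ∈ B, ∀ b ∈ B, a * b = b * a := by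
      intro a ha b hb
      obtain ⟨a', ⟨a'', ha'', rfl⟩, rfl⟩ := ha
      obtain ⟨b', ⟨b'', hb'', rfl⟩, rfl⟩ := hb
      have hc : a'' * b'' = b'' * a'' := by
        have := hAc.is_comm.comm ⟨a'', ha''⟩ ⟨b'', hb''⟩
        exact congrArg Subtype.val this
      have hc' : (a'' : G) * b'' = b'' * a'' := by
        have := congrArg Subtype.val hc
        simpa using this
      simp only [MulEquiv.coe_toMonoidHom, MulAut.conj_apply, Subgroup.coe_subtype]
      calc z * ↑a'' * z⁻¹ * (z * ↑b'' * z⁻¹) = z * (↑a'' * ↑b'') * z⁻¹ := by group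
        _ = z * (↑b'' * ↑a'') * z⁻¹ := by rw [hc']
        _ = z * ↑b'' * z⁻¹ * (z * ↑a'' * z⁻¹) := by group
    have hBexp : ∀ a ∈ B, a ^ p = 1 := by
      intro a ha
      obtain ⟨a', ⟨a'', ha'', rfl⟩, rfl⟩ := ha
      have h1 : (a'' : G) ^ p = 1 := by
        have := congrArg Subtype.val (hAe a'' ha'')
        simpa using this
      simp only [MulEquiv.coe_toMonoidHom, MulAut.conj_apply, Subgroup.coe_subtype]
      rw [conj_pow, h1]; simp
    have hBcard : Nat.card B = Nat.card A := by
      rw [hB, card_cj, Subgroup.card_map_of_injective (Subgroup.subtype_injective _)]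
    have hTtop : T ≠ ⊤ := fun h => hNtop (top_le_iff.mp (h ▸ hT.le))
    have h1 : ¬ Cfsg.RankLE 1 T :=
      not_rankLE_of_elemAb hp hBT hBcomm hBexp (by
        rw [hBcard]
        calc p ^ 1 ≤ p ^ 2 := Nat.pow_le_pow_right hp.pos (by norm_num)
          _ < Nat.card A := hAcard)
    have h2 : ¬ Cfsg.RankLE 2 T :=
      not_rankLE_of_elemAb hp hBT hBcomm hBexp (by rw [hBcard]; exact hAcard)
    obtain ⟨M₀, ⟨hM₀, hTM₀⟩, huniq⟩ := hU T hTtop h1 (Or.inl h2)
    have hMM₀ : M = M₀ := huniq M ⟨hM, hTM⟩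
    obtain ⟨L, hL, hNL⟩ := (eq_top_or_exists_le_coatom N).resolve_left hNtop
    have hLM₀ : L = M₀ := huniq L ⟨hL, hT.le.trans hNL⟩
    rw [hMM₀, ← hLM₀]; exact hNL

end loc

end Cfsg.Agent.Helper79.BG10
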