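import Mathlib
import Cfsg.Prelude.Def_OddOrderLocal
import Cfsg.Agent.Lib.Helper79.BG10.Loc

/-!
# B-G Theorem 10.2, global inputs

* `le_of_rank_three` : a subgroup `T ≤ M` of rank `≥ 3` forces every proper overgroup into `M`;
* `alpha_subset_sigma` : `α(M) ⊆ σ(M)`;
* `ctrl_of_sigma` : B-G 10.1(a) for `p ∈ σ(M)`;
* `sylow_le_commutator` : for `p ∈ σ(M)` a Sylow `p`-subgroup of `M` lies in `M'`
  (focal subgroup theorem + 10.1(a)).
-/

set_option autoImplicit false
set_option linter.unusedSectionVars false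

namespace Cfsg.Agent.Helper79.BG10

open Subgroup
open Cfsg.Agent.Helper16
open scoped commutatorElement

variable {G : Type*} [Group G] [Finite G]

/-- a subgroup of rank at least 3 of a maximal subgroup `M` lies in no other maximal subgroup:
every proper subgroup containing it lies in `M`. -/
theorem le_of_rank_three (hU : UniqHyp G) {M : Subgroup G} (hM : IsCoatom M)
    {T : Subgroup G} (hTM : T ≤ M) (h1 : ¬ Cfsg.RankLE 1 T) (h2 : ¬ Cfsg.RankLE 2 T)
    {N : Subgroup G} (hN : N ≠ ⊤) (hTN : T ≤ N) : N ≤ M := by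
  have hTtop : T ≠ ⊤ := fun h => hM.1 (top_le_iff.mp (h ▸ hTM))
  obtain ⟨M₀, ⟨hM₀, hTM₀⟩, huniq⟩ := hU T hTtop h1 (Or.inl h2)
  have hMM₀ : M = M₀ := huniq M ⟨hM, hTM⟩
  obtain ⟨L, hL, hNL⟩ := (eq_top_or_exists_le_coatom N).resolve_left hN
  have hLM₀ : L = M₀ := huniq L ⟨hL, hTN.trans hNL⟩
  rw [hMM₀, ← hLM₀]; exact hNL

/-- `¬ PRankLE p 2 ↥T` gives `¬ RankLE 1 T` and `¬ RankLE 2 T`. -/
theorem not_rankLE_of_not_pRankLE {p : ℕ} (hp : p.Prime) {T : Subgroup G}
    (h : ¬ Cfsg.PRankLE p 2 ↥T) : ¬ Cfsg.RankLE 1 T ∧ ¬ Cfsg.RankLE 2 T := by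
  constructor
  · intro h1
    apply h
    intro A hA hAe
    have := h1 p hp A hA hAe
    calc Nat.card A ≤ p ^ 1 := this
      _ ≤ p ^ 2 := Nat.pow_le_pow_right hp.pos (by norm_num)
  · intro h2
    exact h (h2 p hp)

/-- rank passes up: `¬ PRankLE p k ↥A` for `A ≤ T` gives `¬ PRankLE p k ↥T` -/
theorem not_pRankLE_mono {p k : ℕ} {A T : Subgroup G} (hAT : A ≤ T)
    (h : ¬ Cfsg.PRankLE p k ↥A) : ¬ Cfsg.PRankLE p k ↥T := by
  intro hT
  apply h
  intro B hB hBe
  have h1 := hT ((B.map A.subtype).subgroupOf T) ?_ ?_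
  · have hle : B.map A.subtype ≤ T := (Subgroup.map_subtype_le B).trans hAT
    have e1 : Nat.card ((B.map A.subtype).subgroupOf T) = Nat.card (B.map A.subtype) :=
      Nat.card_congr (Subgroup.subgroupOfEquivOfLe hle).toEquiv
    have e2 : Nat.card (B.map A.subtype) = Nat.card B :=
      Subgroup.card_map_of_injective (Subgroup.subtype_injective _)
    omega
  · refine ⟨⟨fun a b => ?_⟩⟩
    apply Subtype.ext
    apply Subtype.ext
    obtain ⟨a', ha', hae⟩ := (Subgroup.mem_subgroupOf.mp a.2)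
    obtain ⟨b', hb', hbe⟩ := (Subgroup.mem_subgroupOf.mp b.2)
    have hc : a' * b' = b' * a' := by
      have := hB.is_comm.comm ⟨a', ha'⟩ ⟨b', hb'⟩
      exact congrArg Subtype.val this
    have hc' : (a' : G) * b' = b' * a' := by
      have := congrArg Subtype.val hc
      simpa using this
    simp only [Subgroup.coe_subtype] at hae hbe
    show ((a.1 : T) : G) * ((b.1 : T) : G) = ((b.1 : T) : G) * ((a.1 : T) : G)
    rw [← hae, ← hbe, hc']
  · intro a ha
    apply Subtype.ext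
    obtain ⟨a', ha', hae⟩ := (Subgroup.mem_subgroupOf.mp ha)
    have h2 : (a' : G) ^ p = 1 := by
      have := congrArg Subtype.val (hBe a' ha')
      simpa using this
    simp only [Subgroup.coe_subtype] at hae
    show ((a : T) : G) ^ p = 1
    rw [← hae, h2]

theorem isPGroup_of_pow_eq_one {H : Type*} [Group H] {p : ℕ} (A : Subgroup H)
    (h : ∀ a ∈ A, a ^ p = 1) : IsPGroup p A := by
  intro a
  refine ⟨1, ?_⟩
  rw [pow_one]
  exact Subtype.ext (by rw [Subgroup.coe_pow]; exact h a.1 a.2)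

/-- the image in `G` of an elementary abelian subgroup of `↥M` -/
theorem elemAb_map_subtype {p : ℕ} {M : Subgroup G} (A : Subgroup ↥M) (hAc : IsMulCommutative A)
    (hAe : ∀ a ∈ A, a ^ p = 1) :
    (∀ a ∈ A.map M.subtype, ∀ b ∈ A.map M.subtype, a * b = b * a) ∧
      (∀ a ∈ A.map M.subtype, a ^ p = 1) ∧ Nat.card (A.map M.subtype) = Nat.card A := by
  refine ⟨?_, ?_, Subgroup.card_map_of_injective (Subgroup.subtype_injective _)⟩
  · rintro _ ⟨a, ha, rfl⟩ _ ⟨b, hb, rfl⟩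
    have := hAc.is_comm.comm ⟨a, ha⟩ ⟨b, hb⟩
    have h2 : a * b = b * a := congrArg Subtype.val this
    have h3 := congrArg Subtype.val h2
    simpa using h3
  · rintro _ ⟨a, ha, rfl⟩
    have := congrArg Subtype.val (hAe a ha)
    simpa using this

/-- `α(M) ⊆ σ(M)` -/
theorem alpha_subset_sigma (hG : Cfsg.IsMinSimpleOddOrder G) (hU : UniqHyp G)
    {M : Subgroup G} (hM : IsCoatom M) : Cfsg.alpha M ⊆ Cfsg.sigma M := by
  rintro p ⟨hp, hr⟩
  have : Fact p.Prime := ⟨hp⟩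
  -- an elementary abelian subgroup of M of order > p^2
  have hr' := hr
  unfold Cfsg.PRankLE at hr'
  push Not at hr'
  obtain ⟨A, hAc, hAe, hAcard⟩ := hr'
  have hAp : IsPGroup p A := isPGroup_of_pow_eq_one A hAe
  obtain ⟨P, hAP⟩ := hAp.exists_le_sylow
  have hp2 : 1 ≤ p ^ 2 := Nat.one_le_pow _ _ hp.pos
  have hpM : p ∣ Nat.card ↥M := by
    obtain ⟨n, hn⟩ := IsPGroup.iff_card.mp hAp
    have hn0 : n ≠ 0 := by
      intro h0
      rw [h0, pow_zero] at hn
      omega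
    have : p ∣ Nat.card A := by rw [hn]; exact dvd_pow_self p hn0
    exact this.trans (Subgroup.card_subgroup_dvd_card A)
  refine ⟨hp, hpM, P, ?_⟩
  set T : Subgroup G := (P : Subgroup ↥M).map M.subtype with hT
  have hTM : T ≤ M := Subgroup.map_subtype_le _
  have hTp : IsPGroup p T := P.isPGroup'.map _
  obtain ⟨hBc, hBe, hBcard⟩ := elemAb_map_subtype A hAc hAe
  have hBT : A.map M.subtype ≤ T := Subgroup.map_mono hAP
  have h1 : ¬ Cfsg.RankLE 1 T :=
    not_rankLE_of_elemAb hp hBT hBc hBe (by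
      rw [hBcard]
      calc p ^ 1 ≤ p ^ 2 := Nat.pow_le_pow_right hp.pos (by norm_num)
        _ < Nat.card A := hAcard)
  have h2 : ¬ Cfsg.RankLE 2 T :=
    not_rankLE_of_elemAb hp hBT hBc hBe (by rw [hBcard]; exact hAcard)
  have hT1 : T ≠ ⊥ := by
    intro h
    have : Nat.card (A.map M.subtype) ≤ Nat.card T :=
      Nat.le_of_dvd Nat.card_pos (Subgroup.card_dvd_of_le hBT)
    rw [h, Subgroup.card_bot, hBcard] at this
    omega
  have hNtop := Cfsg.Agent.Helper45.CNSimple.normalizer_ne_top hG hTp hT1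
  exact le_of_rank_three hU hM hTM h1 h2 hNtop le_normalizer

section sigma

variable {p : ℕ} [Fact p.Prime]

/-- B-G 10.1(a) for `p ∈ σ(M)`. -/
theorem ctrl_of_sigma (hG : Cfsg.IsMinSimpleOddOrder G) (hU : UniqHyp G)
    {M : Subgroup G} (hM : IsCoatom M) (hp : p ∈ Cfsg.sigma M) {X : Subgroup G}
    (hXp : IsPGroup p X) (hXM : X ≤ M) : Ctrl M X := by
  obtain ⟨-, -, P, hP⟩ := hp
  exact ctrl_of_locHyp ⟨P, rfl⟩ hP (locHyp_of_minSimple hG hU hM) X hXp hXM

/-- for `p ∈ σ(M)` every Sylow `p`-subgroup of `M` has its normalizer in `M` -/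
theorem normalizer_le_of_sigma {M : Subgroup G} (hp : p ∈ Cfsg.sigma M) {P₀ : Subgroup G}
    (hP₀ : IsSylowIn p M P₀) : normalizer (P₀ : Set G) ≤ M := by
  obtain ⟨-, -, P, hP⟩ := hp
  exact normalizer_le_of_isSylowIn ⟨P, rfl⟩ hP hP₀

/-- for `p ∈ σ(M)` every Sylow `p`-subgroup of `M` is a Sylow `p`-subgroup of `G` -/
theorem isSylowIn_top_of_sigma {M : Subgroup G} (hp : p ∈ Cfsg.sigma M) {P₀ : Subgroup G}
    (hP₀ : IsSylowIn p M P₀) : IsSylowIn p ⊤ P₀ :=
  isSylowIn_top_of_normalizer_le hP₀ (normalizer_le_of_sigma hp hP₀)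

/-- for `p ∈ σ(M)`, `p` does not divide the index of `M` -/
theorem not_dvd_index_of_sigma {M : Subgroup G} (hp : p ∈ Cfsg.sigma M) : ¬ p ∣ M.index := by
  have hpp : p.Prime := Fact.out
  obtain ⟨P⟩ : Nonempty (Sylow p ↥M) := inferInstance
  have hP₀ : IsSylowIn p M ((P : Subgroup ↥M).map M.subtype) := ⟨P, rfl⟩
  have h1 := (isSylowIn_top_of_sigma hp hP₀).card
  have h2 := hP₀.card
  rw [Subgroup.card_top] at h1
  have h3 : (Nat.card G).factorization p = (Nat.card ↥M).factorization p :=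
    Nat.pow_right_injective hpp.two_le (h1.symm.trans h2)
  intro hdvd
  have h4 : Nat.card ↥M * M.index = Nat.card G := Subgroup.card_mul_index M
  have hM0 : Nat.card ↥M ≠ 0 := Nat.card_pos.ne'
  have hi0 : M.index ≠ 0 := Subgroup.index_ne_zero_of_finite
  have h5 : (Nat.card G).factorization p
      = (Nat.card ↥M).factorization p + (M.index).factorization p := by
    rw [← h4, Nat.factorization_mul hM0 hi0]; rfl
  have h6 : 1 ≤ (M.index).factorization p :=
    (hpp.dvd_iff_one_le_factorization hi0).mp hdvd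
  omega

/-- for `p ∈ σ(M)` a Sylow `p`-subgroup of `M` lies in `M'` (focal subgroup theorem and 10.1(a)) -/
theorem sylow_le_commutator (hG : Cfsg.IsMinSimpleOddOrder G) (hU : UniqHyp G)
    {M : Subgroup G} (hM : IsCoatom M) (hp : p ∈ Cfsg.sigma M) {P₀ : Subgroup G}
    (hP₀ : IsSylowIn p M P₀) : P₀ ≤ ⁅M, M⁆ := by
  have hS := (isSylowIn_top_of_sigma hp hP₀).card
  rw [Subgroup.card_top] at hS
  set S : Sylow p G := Sylow.ofCard P₀ hS with hSdef
  have hSP : (S : Subgroup G) = P₀ := Sylow.coe_ofCard _ _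
  have hfoc := Subgroup.commutator_inf_eq_focalSubgroup S
  rw [Cfsg.Agent.Helper45.CNSimple.commutator_eq_top hG, top_inf_eq, hSP] at hfoc
  rw [hfoc, Subgroup.focalSubgroup_def, Subgroup.closure_le]
  rintro g ⟨hgP, x, hxP, u, rfl⟩
  -- u x u⁻¹ ∈ P₀
  have hxM : x ∈ M := hP₀.le hxP
  have h1 : u * x * u⁻¹ ∈ P₀ := by
    have : u * x * u⁻¹ = (x⁻¹ * ⁅x, u⁆)⁻¹ := by
      rw [commutatorElement_def]; group
    rw [this]
    exact inv_mem (mul_mem (inv_mem hxP) hgP)
  have hXp : IsPGroup p (zpowers x) := hP₀.isPGroup.to_le (by rwa [zpowers_le])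
  have hXM : zpowers x ≤ M := by rwa [zpowers_le]
  have hcj : cj u (zpowers x) ≤ M := by
    intro y hy
    rw [mem_cj] at hy
    obtain ⟨k, hk⟩ := mem_zpowers_iff.mp hy
    have : y = (u * x * u⁻¹) ^ k := by
      rw [conj_zpow, hk]; group
    rw [this]
    exact zpow_mem (hP₀.le h1) k
  obtain ⟨m, hm, c, hc, rfl⟩ := ctrl_of_sigma hG hU hM hp hXp hXM u hcj
  have hcx : c * x = x * c := by
    have := mem_centralizer_iff.mp hc x (mem_zpowers x)
    exact this.symm
  have : ⁅x, m * c⁆ = ⁅x, m⁆ := by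
    rw [commutatorElement_def, commutatorElement_def]
    have h2 : c * x⁻¹ * c⁻¹ = x⁻¹ := by
      have : c * x⁻¹ = x⁻¹ * c := by
        calc c * x⁻¹ = x⁻¹ * (x * c) * x⁻¹ := by group
          _ = x⁻¹ * (c * x) * x⁻¹ := by rw [hcx]
          _ = x⁻¹ * c := by group
      rw [this]; group
    calc x * (m * c) * x⁻¹ * (m * c)⁻¹ = x * m * (c * x⁻¹ * c⁻¹) * m⁻¹ := by group
      _ = x * m * x⁻¹ * m⁻¹ := by rw [h2]
  rw [this]
  exact Subgroup.commutator_mem_commutator hxM hm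

end sigma

end Cfsg.Agent.Helper79.BG10
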