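import Mathlib
import Cfsg.Prelude.Def_OddOrderLocal
import Cfsg.Agent.Lib.Helper62.PiCore
import Cfsg.Agent.Lib.Helper24.RankTwoSolv
import Cfsg.Agent.Lib.Helper22.Fitting
import Cfsg.Agent.Lib.Helper63.PLen
import Cfsg.Agent.S1451
import Cfsg.Agent.S1456

/-!
# The quotient of a solvable group of odd order by `O_π` when the `π'`-ranks are at most 2
(the group-theoretic core of B-G Theorem 10.2(a),(d))
-/

set_option autoImplicit false
set_option linter.unusedSectionVars false

namespace Cfsg.Agent.Helper79.BG10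

open Subgroup
open Cfsg.Agent.Helper62

variable {H : Type*} [Group H] [Finite H] (π : Set ℕ)

/-- a normal `π`-subgroup of `H / O_π(H)` is trivial -/
theorem eq_bot_of_normal_isPi_quot (R : Subgroup (H ⧸ Cfsg.piCore π H)) (hR : R.Normal)
    (hRπ : IsPi π R) : R = ⊥ := by
  set K := Cfsg.piCore π H with hK
  set N : Subgroup H := R.comap (QuotientGroup.mk' K) with hN
  have hKN : K ≤ N := by
    intro x hx
    rw [hN, Subgroup.mem_comap]
    have : (QuotientGroup.mk' K) x = 1 := (QuotientGroup.eq_one_iff x).mpr hx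
    rw [this]; exact one_mem _
  have hNn : N.Normal := hR.comap _
  have hcard : Nat.card K * Nat.card R = Nat.card N := by
    have h1 := Subgroup.relIndex_mul_relIndex (⊥ : Subgroup H) K N bot_le hKN
    rw [Subgroup.relIndex_bot_left, Subgroup.relIndex_bot_left,
      Cfsg.Agent.Helper63.relIndex_comap_mk'] at h1
    exact h1
  have hNπ : IsPi π N := by
    intro p hp hdvd
    rw [← hcard] at hdvd
    rcases (Nat.Prime.dvd_mul hp).mp hdvd with h | h
    · exact isPi_piCore π p hp h
    · exact hRπ p hp h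
  have hNK : N ≤ K := le_piCore π hNn hNπ
  have h2 : R = N.map (QuotientGroup.mk' K) :=
    (Subgroup.map_comap_eq_self_of_surjective (QuotientGroup.mk'_surjective K) R).symm
  rw [h2, eq_bot_iff]
  calc N.map (QuotientGroup.mk' K) ≤ K.map (QuotientGroup.mk' K) := Subgroup.map_mono hNK
    _ = ⊥ := QuotientGroup.map_mk'_self K

/-- `O_p(H / O_π(H)) = 1` for `p ∈ π` -/
theorem pCore_quot_eq_bot {p : ℕ} [Fact p.Prime] (hp : p ∈ π) :
    Cfsg.pCore p (H ⧸ Cfsg.piCore π H) = ⊥ := by
  apply eq_bot_of_normal_isPi_quot π _ inferInstance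
  intro q hq hdvd
  obtain ⟨n, hn⟩ := IsPGroup.iff_card.mp (Cfsg.Agent.Helper55.isPGroup_pCore (p := p)
    (G := H ⧸ Cfsg.piCore π H))
  rw [hn] at hdvd
  have : q = p := (Nat.prime_dvd_prime_iff_eq hq Fact.out).mp (hq.dvd_of_dvd_pow hdvd)
  rw [this]; exact hp

/-- a `p`-element of `F(H / O_π(H))` is trivial for `p ∈ π` -/
theorem eq_one_of_mem_fitting_quot {p : ℕ} [Fact p.Prime] (hp : p ∈ π)
    (y : H ⧸ Cfsg.piCore π H) (hy : y ∈ Cfsg.fittingSubgroup (H ⧸ Cfsg.piCore π H))
    {k : ℕ} (hk : y ^ p ^ k = 1) : y = 1 := by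
  induction k with
  | zero => simpa using hk
  | succ k ih =>
    apply ih
    -- z := y^(p^k) has z^p = 1 and lies in F, hence in O_p = 1
    have hz : (y ^ p ^ k) ^ p = 1 := by rw [← pow_mul, ← pow_succ]; exact hk
    have hzF : y ^ p ^ k ∈ Cfsg.fittingSubgroup (H ⧸ Cfsg.piCore π H) := pow_mem hy _
    have := Cfsg.Agent.S1456.mem_pCore_of_mem_fitting p _ hzF hz
    rw [pCore_quot_eq_bot π hp] at this
    exact (Subgroup.mem_bot).mp this

/-- Main lemma: `H` solvable of odd order, `q`-rank at most 2 for `q ∉ π`, and the Sylow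
`p`-subgroups for `p ∈ π` inside `H'`.  Then `O_π(H)` is a Hall `π`-subgroup, `H / O_π(H)` has
rank at most 2 and nilpotent derived subgroup. -/
theorem piQuot_main [Group.IsSolvable H] (hodd : Odd (Nat.card H))
    (h1 : ∀ q : ℕ, q.Prime → q ∉ π → Cfsg.PRankLE q 2 H)
    (h2 : ∀ (p : ℕ) [Fact p.Prime], p ∈ π → ∀ P : Sylow p H, (P : Subgroup H) ≤ commutator H) :
    (∀ p : ℕ, p.Prime → p ∈ π → ¬ p ∣ (Cfsg.piCore π H).index) ∧
      Cfsg.RankLE 2 (H ⧸ Cfsg.piCore π H) ∧
      Group.IsNilpotent (commutator (H ⧸ Cfsg.piCore π H)) := by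
  set K := Cfsg.piCore π H with hK
  -- rank of the quotient for q ∉ π
  have hrq : ∀ q : ℕ, q.Prime → q ∉ π → Cfsg.PRankLE q 2 (H ⧸ K) := by
    intro q hq hqπ
    have : Fact q.Prime := ⟨hq⟩
    apply Cfsg.Agent.Helper24.RankTwoSolv.pRankLE_quotient_coprime K _ (h1 q hq hqπ)
    rw [Nat.coprime_comm, Nat.Prime.coprime_iff_not_dvd hq]
    intro hdvd
    exact hqπ (isPi_piCore π q hq hdvd)
  -- rank of the Fitting subgroup of the quotient
  have hF : Cfsg.RankLE 2 (Cfsg.fittingSubgroup (H ⧸ K)) := by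
    intro q hq
    by_cases hqπ : q ∈ π
    · have : Fact q.Prime := ⟨hq⟩
      intro A _ hAe
      have hA1 : A = ⊥ := by
        rw [eq_bot_iff]
        intro a ha
        have h3 : ((a : Cfsg.fittingSubgroup (H ⧸ K)) : H ⧸ K) = 1 := by
          apply eq_one_of_mem_fitting_quot π hqπ _ a.2 (k := 1)
          rw [pow_one]
          have := congrArg Subtype.val (hAe a ha)
          simpa using this
        rw [Subgroup.mem_bot]
        exact Subtype.ext h3
      rw [hA1, Subgroup.card_bot]
      exact Nat.one_le_pow _ _ hq.pos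
    · exact Cfsg.Agent.Helper24.RankTwoSolv.pRankLE_subgroup (hrq q hq hqπ) _
  have hoddQ : Odd (Nat.card (H ⧸ K)) := by
    have : Nat.card (H ⧸ K) ∣ Nat.card H := by
      rw [← Subgroup.index_eq_card]; exact Subgroup.index_dvd_card K
    exact Odd.of_dvd_nat hodd this
  have h451 := Cfsg.Agent.S1451.result (G := H ⧸ K) hoddQ (Or.inr hF)
  have hnil : Group.IsNilpotent (commutator (H ⧸ K)) := h451.1
  have hcF : commutator (H ⧸ K) ≤ Cfsg.fittingSubgroup (H ⧸ K) :=
    Cfsg.Agent.Helper22.le_fittingSubgroup inferInstance hnil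
  have hHall : ∀ p : ℕ, p.Prime → p ∈ π → ¬ p ∣ K.index := by
    intro p hp hpπ
    have : Fact p.Prime := ⟨hp⟩
    obtain ⟨P⟩ : Nonempty (Sylow p H) := inferInstance
    have hPK : (P : Subgroup H) ≤ K := by
      intro x hx
      have hxc : x ∈ commutator H := h2 p hpπ P hx
      have h3 : (QuotientGroup.mk' K) x ∈ commutator (H ⧸ K) := by
        have : (commutator H).map (QuotientGroup.mk' K) ≤ commutator (H ⧸ K) := by
          rw [commutator_def, commutator_def, Subgroup.map_commutator]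
          exact Subgroup.commutator_mono le_top le_top
        exact this ⟨x, hxc, rfl⟩
      obtain ⟨k, hk⟩ := (IsPGroup.iff_orderOf.mp P.isPGroup') ⟨x, hx⟩
      have hxk : x ^ p ^ k = 1 := by
        have := pow_orderOf_eq_one (⟨x, hx⟩ : (P : Subgroup H))
        rw [hk] at this
        have := congrArg Subtype.val this
        simpa using this
      have h4 : ((QuotientGroup.mk' K) x) ^ p ^ k = 1 := by
        rw [← map_pow, hxk, map_one]
      have h5 := eq_one_of_mem_fitting_quot π hpπ _ (hcF h3) h4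
      exact (QuotientGroup.eq_one_iff x).mp h5
    intro hdvd
    exact P.not_dvd_index (hdvd.trans (Subgroup.index_dvd_of_le hPK))
  refine ⟨hHall, ?_, hnil⟩
  -- rank of the quotient
  intro q hq
  by_cases hqπ : q ∈ π
  · have : Fact q.Prime := ⟨hq⟩
    intro A _ hAe
    have hAp : IsPGroup q A := by
      intro a
      refine ⟨1, ?_⟩
      rw [pow_one]
      exact Subtype.ext (by rw [Subgroup.coe_pow]; exact hAe a.1 a.2)
    obtain ⟨n, hn⟩ := IsPGroup.iff_card.mp hAp
    have hdvd : Nat.card A ∣ K.index := by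
      rw [Subgroup.index_eq_card]; exact Subgroup.card_subgroup_dvd_card A
    have hn0 : n = 0 := by
      by_contra h0
      apply hHall q hq hqπ
      exact (dvd_pow_self q h0).trans (hn ▸ hdvd)
    rw [hn, hn0, pow_zero]
    exact Nat.one_le_pow _ _ hq.pos
  · exact hrq q hq hqπ

end Cfsg.Agent.Helper79.BG10
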