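import Mathlib
import Cfsg.Prelude.Def_OddOrderLocal
import Cfsg.Agent.Lib.Helper79.BG10.Alpha
import Cfsg.Agent.Lib.Helper79.BG10.PiQuot

/-!
# B-G Theorem 10.2 (a), (c1), (d): the subgroup `M_α`
-/

set_option autoImplicit false
set_option linter.unusedSectionVars false

namespace Cfsg.Agent.Helper79.BG10

open Subgroup
open Cfsg.Agent.Helper16 Cfsg.Agent.Helper62

variable {G : Type*} [Group G] [Finite G]

/-- `O_π` is monotone in `π` -/
theorem piCore_mono {H : Type*} [Group H] {π π' : Set ℕ} (h : π ⊆ π') :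
    Cfsg.piCore π H ≤ Cfsg.piCore π' H := by
  unfold Cfsg.piCore
  apply sSup_le_sSup
  rintro N ⟨hN, hπ⟩
  exact ⟨hN, fun p hp hd => h (hπ p hp hd)⟩

theorem relIndex_map_subtype' {M : Subgroup G} (K : Subgroup ↥M) :
    (K.map M.subtype).relIndex M = K.index := by
  have h1 := Subgroup.relIndex_mul_index (Subgroup.map_subtype_le K)
  rw [Subgroup.index_map_subtype] at h1
  exact Nat.eq_of_mul_eq_mul_right (Nat.pos_of_ne_zero Subgroup.index_ne_zero_of_finite) h1

/-- B-G Theorem 10.2: `M_α` is a Hall `α(M)`-subgroup of `M` and of `G`, `M_α ≤ M_σ`,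
`M / M_α` has rank at most 2 and `M' M_α / M_α` is nilpotent. -/
theorem theorem_10_2 (hG : Cfsg.IsMinSimpleOddOrder G) (hU : UniqHyp G)
    {M : Subgroup G} (hM : IsCoatom M) :
    Cfsg.IsPiHallOf (Cfsg.alpha M) (Cfsg.alphaCore M) M ∧
      Cfsg.IsPiHall (Cfsg.alpha M) (Cfsg.alphaCore M) ∧
      Cfsg.alphaCore M ≤ Cfsg.sigmaCore M ∧
      Cfsg.RankLE 2 (↥M ⧸ Cfsg.piCore (Cfsg.alpha M) ↥M) ∧
      Group.IsNilpotent
        ↥((commutator ↥M).map (QuotientGroup.mk' (Cfsg.piCore (Cfsg.alpha M) ↥M))) := by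
  have hMtop : M ≠ ⊤ := hM.1
  have hsolv : Group.IsSolvable ↥M := Cfsg.Agent.Helper45.CNSimple.solvable_of_ne_top hG hMtop
  have hodd : Odd (Nat.card ↥M) := Cfsg.Agent.Helper45.CNSimple.odd_card_subgroup hG M
  have hασ := alpha_subset_sigma hG hU hM
  have h1 : ∀ q : ℕ, q.Prime → q ∉ Cfsg.alpha M → Cfsg.PRankLE q 2 ↥M := by
    intro q hq hqα
    by_contra hcon
    exact hqα ⟨hq, hcon⟩
  have h2 : ∀ (p : ℕ) [Fact p.Prime], p ∈ Cfsg.alpha M → ∀ P : Sylow p ↥M,
      (P : Subgroup ↥M) ≤ commutator ↥M := by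
    intro p _ hp P
    have h3 := sylow_le_commutator hG hU hM (hασ hp) (P₀ := (P : Subgroup ↥M).map M.subtype)
      ⟨P, rfl⟩
    rw [← Subgroup.map_subtype_commutator] at h3
    exact (Subgroup.map_le_map_iff_of_injective M.subtype_injective).mp h3
  obtain ⟨hHall, hrank, hnil⟩ := piQuot_main (H := ↥M) (Cfsg.alpha M) hodd h1 h2
  set K := Cfsg.piCore (Cfsg.alpha M) ↥M with hK
  have hcardK : Nat.card (Cfsg.alphaCore M) = Nat.card K :=
    Subgroup.card_map_of_injective (Subgroup.subtype_injective _)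
  have hpi : ∀ p : ℕ, p.Prime → p ∣ Nat.card (Cfsg.alphaCore M) → p ∈ Cfsg.alpha M := by
    intro p hp hd
    rw [hcardK] at hd
    exact isPi_piCore (Cfsg.alpha M) p hp hd
  refine ⟨⟨Subgroup.map_subtype_le _, hpi, ?_⟩, ⟨hpi, ?_⟩, ?_, hrank, ?_⟩
  · intro p hp hpα
    show ¬ p ∣ (K.map M.subtype).relIndex M
    rw [relIndex_map_subtype']
    exact hHall p hp hpα
  · intro p hp hpα
    have : Fact p.Prime := ⟨hp⟩
    show ¬ p ∣ (K.map M.subtype).index
    rw [Subgroup.index_map_subtype]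
    intro hd
    rcases (Nat.Prime.dvd_mul hp).mp hd with h | h
    · exact hHall p hp hpα h
    · exact not_dvd_index_of_sigma (hασ hpα) h
  · exact Subgroup.map_mono (piCore_mono hασ)
  · have hmap : (commutator ↥M).map (QuotientGroup.mk' K) = commutator (↥M ⧸ K) := by
      rw [commutator_def, commutator_def, Subgroup.map_commutator,
        Subgroup.map_top_of_surjective _ (QuotientGroup.mk'_surjective K)]
    rw [hmap]
    exact hnil

end Cfsg.Agent.Helper79.BG10
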