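import Mathlib
import Cfsg.Prelude.Def_OddOrderLocal
import Cfsg.Agent.Lib.Helper79.BG10.Thm102

/-!
# B-G Theorem 10.2(b): `M_σ` is a Hall `σ(M)`-subgroup of `M` and of `G`
-/

set_option autoImplicit false
set_option linter.unusedSectionVars false

namespace Cfsg.Agent.Helper79.BG10

open Subgroup
open Cfsg.Agent.Helper16 Cfsg.Agent.Helper62

/-- a `t`-element of the Fitting subgroup lies in `O_t` -/
theorem mem_pCore_of_mem_fitting_of_pow {S : Type*} [Group S] [Finite S] (t : ℕ) [ht : Fact t.Prime]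
    {b : S} (hb : b ∈ Cfsg.fittingSubgroup S) {j : ℕ} (hbj : b ^ (t ^ j) = 1) :
    b ∈ Cfsg.pCore t S := by
  have h1 := Cfsg.Agent.Helper22.fittingSubgroup_le_pCore_sup_pPrimeCore (G := S) t hb
  obtain ⟨u, hu, v, hv, rfl⟩ := Subgroup.mem_sup_of_normal_right.mp h1
  have hPt : IsPGroup t (Cfsg.pCore t S) := Cfsg.Agent.Helper55.isPGroup_pCore
  have hcop : (Nat.card (Cfsg.pPrimeCore t S)).Coprime t := Cfsg.Agent.Helper55.pPrimeCore_coprime t
  have hdis : Disjoint (Cfsg.pCore t S) (Cfsg.pPrimeCore t S) := by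
    apply Subgroup.disjoint_of_coprime_natCard
    obtain ⟨m, hm⟩ := IsPGroup.iff_card.mp hPt
    rw [hm]
    exact Nat.Coprime.pow_left m (Nat.Coprime.symm hcop)
  have hc : Commute u v :=
    Subgroup.commute_of_normal_of_disjoint _ _ inferInstance inferInstance hdis u v hu hv
  have h2 : u ^ t ^ j * v ^ t ^ j = 1 := by rw [← hc.mul_pow]; exact hbj
  have h3 : v ^ t ^ j ∈ Cfsg.pCore t S := by
    have : v ^ t ^ j = (u ^ t ^ j)⁻¹ := eq_inv_of_mul_eq_one_right h2
    rw [this]; exact inv_mem (pow_mem hu _)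
  have h4 : v ^ t ^ j = 1 := by
    have := hdis.le_bot (show v ^ t ^ j ∈ Cfsg.pCore t S ⊓ Cfsg.pPrimeCore t S from
      ⟨h3, pow_mem hv _⟩)
    exact (Subgroup.mem_bot).mp this
  have h5 : v = 1 := by
    have ho : orderOf v ∣ t ^ j := orderOf_dvd_of_pow_eq_one h4
    have ho2 : orderOf v ∣ Nat.card (Cfsg.pPrimeCore t S) := by
      have := orderOf_dvd_natCard (⟨v, hv⟩ : Cfsg.pPrimeCore t S)
      rwa [Subgroup.orderOf_mk] at this
    have h6 : (orderOf v).Coprime (t ^ j) :=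
      Nat.Coprime.coprime_dvd_left ho2 (Nat.Coprime.pow_right j hcop)
    have h7 : orderOf v = 1 := Nat.Coprime.eq_one_of_dvd h6 ho
    exact orderOf_eq_one_iff.mp h7
  rw [h5, mul_one]; exact hu

variable {G : Type*} [Group G] [Finite G]

/-- for `p ∈ σ(M)`, the Sylow `p`-subgroups of `M` lie in `O_σ(M)`. -/
theorem sylow_le_piCore_sigma (hG : Cfsg.IsMinSimpleOddOrder G) (hU : UniqHyp G)
    {M : Subgroup G} (hM : IsCoatom M) {p : ℕ} [Fact p.Prime] (hp : p ∈ Cfsg.sigma M)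
    (P : Sylow p ↥M) : (P : Subgroup ↥M) ≤ Cfsg.piCore (Cfsg.sigma M) ↥M := by
  have hpp : p.Prime := Fact.out
  have hMtop : M ≠ ⊤ := hM.1
  have hsolv : Group.IsSolvable ↥M := Cfsg.Agent.Helper45.CNSimple.solvable_of_ne_top hG hMtop
  have hodd : Odd (Nat.card ↥M) := Cfsg.Agent.Helper45.CNSimple.odd_card_subgroup hG M
  have hασ := alpha_subset_sigma hG hU hM
  have h1 : ∀ q : ℕ, q.Prime → q ∉ Cfsg.alpha M → Cfsg.PRankLE q 2 ↥M := by
    intro q hq hqα
    by_contra hcon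
    exact hqα ⟨hq, hcon⟩
  have hcomm : ∀ (q : ℕ) [Fact q.Prime], q ∈ Cfsg.sigma M → ∀ P : Sylow q ↥M,
      (P : Subgroup ↥M) ≤ commutator ↥M := by
    intro q _ hq P
    have h3 := sylow_le_commutator hG hU hM hq (P₀ := (P : Subgroup ↥M).map M.subtype) ⟨P, rfl⟩
    rw [← Subgroup.map_subtype_commutator] at h3
    exact (Subgroup.map_le_map_iff_of_injective M.subtype_injective).mp h3
  obtain ⟨-, -, hnil⟩ := piQuot_main (H := ↥M) (Cfsg.alpha M) hodd h1
    (fun q _ hq P => hcomm q (hασ hq) P)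
  set K := Cfsg.piCore (Cfsg.alpha M) ↥M with hK
  have hcF : commutator (↥M ⧸ K) ≤ Cfsg.fittingSubgroup (↥M ⧸ K) :=
    Cfsg.Agent.Helper22.le_fittingSubgroup inferInstance hnil
  -- the preimage of O_p(M/K)
  set Np : Subgroup ↥M := (Cfsg.pCore p (↥M ⧸ K)).comap (QuotientGroup.mk' K) with hNp
  have hPN : (P : Subgroup ↥M) ≤ Np := by
    intro x hx
    have hxc : x ∈ commutator ↥M := hcomm p hp P hx
    have h3 : (QuotientGroup.mk' K) x ∈ commutator (↥M ⧸ K) := by
      have : (commutator ↥M).map (QuotientGroup.mk' K) ≤ commutator (↥M ⧸ K) := by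
        rw [commutator_def, commutator_def, Subgroup.map_commutator]
        exact Subgroup.commutator_mono le_top le_top
      exact this ⟨x, hxc, rfl⟩
    obtain ⟨k, hk⟩ := (IsPGroup.iff_orderOf.mp P.isPGroup') ⟨x, hx⟩
    have hxk : x ^ p ^ k = 1 := by
      have := pow_orderOf_eq_one (⟨x, hx⟩ : (P : Subgroup ↥M))
      rw [hk] at this
      have := congrArg Subtype.val this
      simpa using this
    have h4 : ((QuotientGroup.mk' K) x) ^ p ^ k = 1 := by
      rw [← map_pow, hxk, map_one]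
    exact mem_pCore_of_mem_fitting_of_pow p (hcF h3) h4
  have hKN : K ≤ Np := by
    intro x hx
    rw [hNp, Subgroup.mem_comap]
    have : (QuotientGroup.mk' K) x = 1 := (QuotientGroup.eq_one_iff x).mpr hx
    rw [this]; exact one_mem _
  have hNn : Np.Normal := Subgroup.Normal.comap inferInstance _
  have hcard : Nat.card K * Nat.card (Cfsg.pCore p (↥M ⧸ K)) = Nat.card Np := by
    have h1 := Subgroup.relIndex_mul_relIndex (⊥ : Subgroup ↥M) K Np bot_le hKN
    rw [Subgroup.relIndex_bot_left, Subgroup.relIndex_bot_left,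
      Cfsg.Agent.Helper63.relIndex_comap_mk'] at h1
    exact h1
  have hNσ : IsPi (Cfsg.sigma M) Np := by
    intro q hq hdvd
    rw [← hcard] at hdvd
    rcases (Nat.Prime.dvd_mul hq).mp hdvd with h | h
    · exact hασ (isPi_piCore (Cfsg.alpha M) q hq h)
    · obtain ⟨n, hn⟩ := IsPGroup.iff_card.mp (Cfsg.Agent.Helper55.isPGroup_pCore (p := p)
        (G := ↥M ⧸ K))
      rw [hn] at h
      have : q = p := (Nat.prime_dvd_prime_iff_eq hq hpp).mp (hq.dvd_of_dvd_pow h)
      rw [this]; exact hp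
  exact hPN.trans (le_piCore (Cfsg.sigma M) hNn hNσ)

/-- B-G Theorem 10.2(b): `M_σ` is a Hall `σ(M)`-subgroup of `M` and of `G`, and the only normal
Hall `σ(M)`-subgroup of `M`. -/
theorem sigmaCore_hall (hG : Cfsg.IsMinSimpleOddOrder G) (hU : UniqHyp G)
    {M : Subgroup G} (hM : IsCoatom M) :
    Cfsg.IsPiHallOf (Cfsg.sigma M) (Cfsg.sigmaCore M) M ∧
      Cfsg.IsPiHall (Cfsg.sigma M) (Cfsg.sigmaCore M) ∧
      ∀ N : Subgroup G, M ≤ Subgroup.normalizer (N : Set G) →
        Cfsg.IsPiHallOf (Cfsg.sigma M) N M → N = Cfsg.sigmaCore M := by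
  set K := Cfsg.piCore (Cfsg.sigma M) ↥M with hK
  have hcardK : Nat.card (Cfsg.sigmaCore M) = Nat.card K :=
    Subgroup.card_map_of_injective (Subgroup.subtype_injective _)
  have hpi : ∀ p : ℕ, p.Prime → p ∣ Nat.card (Cfsg.sigmaCore M) → p ∈ Cfsg.sigma M := by
    intro p hp hd
    rw [hcardK] at hd
    exact isPi_piCore (Cfsg.sigma M) p hp hd
  have hHall : ∀ p : ℕ, p.Prime → p ∈ Cfsg.sigma M → ¬ p ∣ K.index := by
    intro p hp hpσ
    have : Fact p.Prime := ⟨hp⟩
    obtain ⟨P⟩ : Nonempty (Sylow p ↥M) := inferInstance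
    have hPK := sylow_le_piCore_sigma hG hU hM hpσ P
    intro hdvd
    exact P.not_dvd_index (hdvd.trans (Subgroup.index_dvd_of_le hPK))
  have hrel : ∀ p : ℕ, p.Prime → p ∈ Cfsg.sigma M → ¬ p ∣ (Cfsg.sigmaCore M).relIndex M := by
    intro p hp hpσ
    show ¬ p ∣ (K.map M.subtype).relIndex M
    rw [relIndex_map_subtype']
    exact hHall p hp hpσ
  refine ⟨⟨Subgroup.map_subtype_le _, hpi, hrel⟩, ⟨hpi, ?_⟩, ?_⟩
  · intro p hp hpσ
    have : Fact p.Prime := ⟨hp⟩
    show ¬ p ∣ (K.map M.subtype).index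
    rw [Subgroup.index_map_subtype]
    intro hd
    rcases (Nat.Prime.dvd_mul hp).mp hd with h | h
    · exact hHall p hp hpσ h
    · exact not_dvd_index_of_sigma hpσ h
  · rintro N hMN ⟨hNM, hNπ, hNH⟩
    -- N ≤ M_σ
    have hNn : (N.subgroupOf M).Normal := by
      refine ⟨fun n hn g => ?_⟩
      rw [Subgroup.mem_subgroupOf] at hn ⊢
      have := (Subgroup.mem_normalizer_iff.mp (hMN g.2) n.1).mp hn
      simpa using this
    have hNσ : IsPi (Cfsg.sigma M) (N.subgroupOf M) := by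
      intro p hp hd
      have : Nat.card (N.subgroupOf M) = Nat.card N :=
        Nat.card_congr (Subgroup.subgroupOfEquivOfLe hNM).toEquiv
      rw [this] at hd
      exact hNπ p hp hd
    have hle : N ≤ Cfsg.sigmaCore M := by
      have h1 : N.subgroupOf M ≤ K := le_piCore (Cfsg.sigma M) hNn hNσ
      intro x hx
      exact ⟨⟨x, hNM hx⟩, h1 (Subgroup.mem_subgroupOf.mpr hx), rfl⟩
    -- equality by orders
    by_contra hne
    have hlt : N.relIndex (Cfsg.sigmaCore M) ≠ 1 := by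
      intro h1
      exact hne (le_antisymm hle (Subgroup.relIndex_eq_one.mp h1))
    obtain ⟨p, hp, hpd⟩ := Nat.exists_prime_and_dvd hlt
    have hpσ : p ∈ Cfsg.sigma M :=
      hpi p hp (hpd.trans (Subgroup.relIndex_dvd_card _ _))
    apply hNH p hp hpσ
    have h2 := Subgroup.relIndex_mul_relIndex N (Cfsg.sigmaCore M) M hle
      (Subgroup.map_subtype_le _)
    rw [← h2]
    exact Dvd.dvd.mul_right hpd _

end Cfsg.Agent.Helper79.BG10
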